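import Mathlib

/-! A multiplication table for `SL₂(3)` and groups built from two commuting copies. -/

set_option autoImplicit false
set_option maxRecDepth 100000
set_option synthInstance.maxSize 100000

namespace Cfsg.G23

open Subgroup

def T (i j : ℕ) : ℕ := Nat.mod (Nat.shiftRight (nat_lit 0x655422c2666d06b026ce890f20a1f74b2e60d1ee2926aa81726a0628c0f6b2d84789b43c8a955c101b82899a3531045b3413abee8941d15058748d74195b7301c9a5a077c42b9305542893a388f01d4d5c6a640a0364ec1b95326cde082d0a7264509c6c25e96154d11524dbc52304d44720c1596af61ed0984b67564022e833b62a124cc85d0f81a934bd71b040224907a8ee55358e2bcf5a2a179004188e694588b331cd5a928398a418820bdab49ca307b9ac026ce890f20a1f7655422c2666d06ba81726a0628c0f64b2e60d1ee2926a55c101b82899a35b2d84789b43c8a9941d15058748d7431045b3413abee87c42b9305542893195b7301c9a5a0740a0364ec1b9532a388f01d4d5c6a609c6c25e96154d16cde082d0a72645720c1596af61ed01524dbc52304d443b62a124cc85d0f984b67564022e8324907a8ee55358e81a934bd71b040288e694588b331cd2bcf5a2a1790041bdab49ca307b9ac5a928398a418820)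
  (Nat.mul (nat_lit 5) (Nat.add (Nat.mul (nat_lit 24) (Nat.mod i (nat_lit 24))) (Nat.mod j (nat_lit 24)))))
  (nat_lit 32)

def tw (s i : ℕ) : ℕ := Nat.mod (Nat.shiftRight (nat_lit 0xb5d33a464f835cc52ea7414c320440bdab49ca307b9ac5a928398a418820)
  (Nat.mul (nat_lit 5) (Nat.add (Nat.mul (nat_lit 24) (Nat.mod s (nat_lit 2))) (Nat.mod i (nat_lit 24)))))
  (nat_lit 32)

theorem T_mod (i j : ℕ) : T (i % 24) (j % 24) = T i j := by
  have : ∀ x, Nat.mod (x % 24) (nat_lit 24) = Nat.mod x (nat_lit 24) := fun x => Nat.mod_mod x 24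
  unfold T; rw [this, this]

theorem tw_mod (s i : ℕ) : tw (s % 2) (i % 24) = tw s i := by
  have h1 : Nat.mod (i % 24) (nat_lit 24) = Nat.mod i (nat_lit 24) := Nat.mod_mod i 24
  have h2 : Nat.mod (s % 2) (nat_lit 2) = Nat.mod s (nat_lit 2) := Nat.mod_mod s 2
  unfold tw; rw [h1, h2]

theorem l24 (i : ℕ) : i % 24 < 24 := Nat.mod_lt _ (by norm_num)
theorem l2 (i : ℕ) : i % 2 < 2 := Nat.mod_lt _ (by norm_num)

theorem T_lt (i j : ℕ) : T i j < 24 := by
  have : ∀ i < 24, ∀ j < 24, T i j < 24 := by decide +kernel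
  rw [← T_mod]; exact this _ (l24 i) _ (l24 j)

theorem tw_lt (s i : ℕ) : tw s i < 24 := by
  have : ∀ s < 2, ∀ j < 24, tw s j < 24 := by decide +kernel
  rw [← tw_mod]; exact this _ (l2 s) _ (l24 i)

theorem tw_T (s i j : ℕ) : tw s (T i j) = T (tw s i) (tw s j) := by
  have : ∀ s < 2, ∀ i < 24, ∀ j < 24, tw s (T i j) = T (tw s i) (tw s j) := by decide +kernel
  have h := this _ (l2 s) _ (l24 i) _ (l24 j)
  rwa [T_mod, tw_mod, tw_mod, ← Nat.mod_eq_of_lt (T_lt i j), tw_mod] at h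

theorem tw_tw (s i : ℕ) : tw s (tw s i) = i % 24 := by
  have : ∀ s < 2, ∀ i < 24, tw s (tw s i) = i := by decide +kernel
  have h := this _ (l2 s) _ (l24 i)
  rwa [tw_mod, ← Nat.mod_eq_of_lt (tw_lt s i), tw_mod] at h

theorem tw_zero (i : ℕ) : tw 0 i = i % 24 := by
  have : ∀ i < 24, tw 0 i = i := by decide +kernel
  rw [← this _ (l24 i)]; exact (tw_mod 0 i).symm

theorem tw_12 (s : ℕ) : tw s 12 = 12 := by
  have : ∀ s < 2, tw s 12 = 12 := by decide +kernel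
  rw [← tw_mod]; exact this _ (l2 s)

variable {G : Type*} [Group G]

/-- `f` numbers the elements of a copy of `SL₂(3)`. -/
structure S24 (f : ℕ → G) : Prop where
  mul : ∀ i j, f i * f j = f (T i j)
  inj : ∀ i j, f i = f j → i % 24 = j % 24
  md : ∀ i, f (i % 24) = f i

namespace S24

variable {f : ℕ → G} (h : S24 f)
include h

theorem one : f 0 = 1 := by
  have := h.mul 0 0
  rw [show T 0 0 = 0 by decide +kernel] at this
  exact mul_eq_left.1 this

theorem congr {i j : ℕ} (e : i % 24 = j % 24) : f i = f j := by rw [← h.md, e, h.md]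

theorem neg (i : ℕ) : f (i + 12) = f i * f 12 := by
  have : ∀ i < 24, T i 12 = (i + 12) % 24 := by decide +kernel
  rw [h.mul, ← T_mod, this _ (l24 i)]
  exact h.congr (by omega)

theorem cen (i : ℕ) : f i * f 12 = f 12 * f i := by
  have : ∀ i < 24, T i 12 = T 12 i := by decide +kernel
  rw [h.mul, h.mul, ← T_mod, this _ (l24 i), ← T_mod 12 i]

theorem zz : f 12 * f 12 = 1 := by
  rw [h.mul, show T 12 12 = 0 by decide +kernel, h.one]

theorem z1 : f 12 ≠ 1 := fun e => by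
  have := h.inj 12 0 (e.trans h.one.symm)
  omega

theorem inv (i : ℕ) : ∃ j < 24, (f i)⁻¹ = f j := by
  have : ∀ i < 24, ∃ j < 24, T i j = 0 := by decide +kernel
  obtain ⟨j, h1, h2⟩ := this _ (l24 i)
  refine ⟨j, h1, inv_eq_of_mul_eq_one_right ?_⟩
  rw [← h.md i, h.mul, h2, h.one]

theorem ind {P : G → Prop} (h0 : P 1) (h1 : ∀ x, P x → P (x * f 1)) (h3 : ∀ x, P x → P (x * f 3))
    (i : ℕ) : P (f i) := by
  have k : ∀ w : List ℕ, (∀ l ∈ w, l = 1 ∨ l = 3) → ∀ s, P (f s) → P (f (w.foldl T s)) := by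
    intro w
    induction w with
    | nil => exact fun _ _ h => h
    | cons l w ih =>
      intro hw s hs
      refine ih (fun l hl => hw l (List.mem_cons_of_mem _ hl)) _ ?_
      rw [← h.mul]
      rcases hw l List.mem_cons_self with rfl | rfl
      exacts [h1 _ hs, h3 _ hs]
  have : ∀ i < 24, ∃ w ∈ ([[], [1], [1, 1], [3], [3, 3], [1, 3, 1, 1], [1, 1, 3, 3, 1], [1, 1, 3, 1],
      [1, 3, 3, 1, 1], [1, 3, 1], [3, 3, 1], [3, 1, 1], [1, 1, 3, 1, 1, 3], [3, 1, 1, 3],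
      [1, 3, 1, 1, 3], [1, 3, 3, 1], [1, 1, 3, 1, 1], [1, 1, 3, 3], [1, 3], [3, 3, 1, 1], [3, 1],
      [1, 1, 3, 3, 1, 1], [1, 1, 3], [1, 3, 3]] : List (List ℕ)),
      (∀ l ∈ w, l = 1 ∨ l = 3) ∧ w.foldl T 0 = i := by decide +kernel
  obtain ⟨w, -, hw, e⟩ := this _ (l24 i)
  rw [← h.md, ← e]
  exact k w hw 0 (h.one ▸ h0)

theorem cube1 : f 1 * (f 1 * f 1) = 1 := by
  rw [h.mul, h.mul, show T 1 (T 1 1) = 0 by decide +kernel, h.one]

theorem cube3 : f 3 * (f 3 * f 3) = 1 := by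
  rw [h.mul, h.mul, show T 3 (T 3 3) = 0 by decide +kernel, h.one]

theorem center {i : ℕ} (h1 : f i * f 1 = f 1 * f i) (h3 : f i * f 3 = f 3 * f i) :
    f i = 1 ∨ f i = f 12 := by
  have : ∀ i < 24, T i 1 = T 1 i → T i 3 = T 3 i → i = 0 ∨ i = 12 := by decide +kernel
  rw [← h.md i, h.mul, h.mul] at h1 h3
  have a1 := h.inj _ _ h1
  have a3 := h.inj _ _ h3
  rw [Nat.mod_eq_of_lt (T_lt _ _), Nat.mod_eq_of_lt (T_lt _ _)] at a1 a3
  rw [← h.md i]
  rcases this _ (l24 i) a1 a3 with e | e <;> rw [e]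
  exacts [Or.inl h.one, Or.inr rfl]

theorem twist (s : ℕ) : S24 fun i => f (tw s i) where
  mul i j := by rw [h.mul, tw_T]
  inj i j e := by
    have := h.inj _ _ e
    rw [Nat.mod_eq_of_lt (tw_lt _ _), Nat.mod_eq_of_lt (tw_lt _ _)] at this
    rw [← tw_tw s i, this, tw_tw]
  md i := by rw [← tw_mod, Nat.mod_mod, tw_mod]

/-- Automorphisms are inner up to the diagonal one. -/
theorem aut {k : G} (hk : ∀ i, ∃ j, f i * k = k * f j) :
    ∃ y, ∃ s < 2, ∀ i, f i * (k * f y) = k * f y * f (tw s i) := by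
  have key : ∀ p < 24, ∀ q < 24, T p (T p p) = 0 → T p (T q p) = T q (T p q) → T p q ≠ T q p →
      ∃ y < 24, ∃ s < 2, T p y = T y (tw s 1) ∧ T q y = T y (tw s 3) := by decide +kernel
  obtain ⟨p, hp⟩ := hk 1
  obtain ⟨q, hq⟩ := hk 3
  rw [← h.md p] at hp
  rw [← h.md q] at hq
  have ep : f (p % 24) = k⁻¹ * f 1 * k := by rw [mul_assoc, hp]; group
  have eq : f (q % 24) = k⁻¹ * f 3 * k := by rw [mul_assoc, hq]; group
  have lt : ∀ {a b c : ℕ}, f (T a b) = f c → T a b = c % 24 := fun e => by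
    rw [← h.inj _ _ e, Nat.mod_eq_of_lt (T_lt _ _)]
  obtain ⟨y, -, s, hs, e1, e3⟩ := key _ (l24 p) _ (l24 q)
    (lt (c := 0) (by
      rw [← h.mul, ← h.mul, ep, h.one]
      calc _ = k⁻¹ * (f 1 * (f 1 * f 1)) * k := by group
        _ = _ := by rw [h.cube1]; group))
    ((lt (by
      have : f 1 * (f 3 * f 1) = f 3 * (f 1 * f 3) := by
        rw [h.mul, h.mul, h.mul, h.mul, show T 1 (T 3 1) = T 3 (T 1 3) by decide +kernel]
      rw [← h.mul, ← h.mul, ← h.mul, ← h.mul, ep, eq]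
      calc _ = k⁻¹ * (f 1 * (f 3 * f 1)) * k := by group
        _ = _ := by rw [this]; group)).trans (Nat.mod_eq_of_lt (T_lt _ _)))
    (fun e => by
      have h1 : f (T (p % 24) (q % 24)) = f (T (q % 24) (p % 24)) := by rw [e]
      rw [← h.mul, ← h.mul, ep, eq] at h1
      have h2 : f 1 * f 3 = f 3 * f 1 := by
        calc _ = k * (k⁻¹ * f 1 * k * (k⁻¹ * f 3 * k)) * k⁻¹ := by group
          _ = _ := by rw [h1]; group
      rw [h.mul, h.mul] at h2
      exact absurd (h.inj _ _ h2) (by decide +kernel))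
  have g1 : f 1 * (k * f y) = k * f y * f (tw s 1) := by
    rw [← mul_assoc, hp, mul_assoc, h.mul, e1, ← h.mul, mul_assoc]
  have g3 : f 3 * (k * f y) = k * f y * f (tw s 3) := by
    rw [← mul_assoc, hq, mul_assoc, h.mul, e3, ← h.mul, mul_assoc]
  refine ⟨y, s, hs, fun i => ?_⟩
  obtain ⟨j, e, e'⟩ := h.ind (P := fun x => ∃ j, x = f j ∧ x * (k * f y) = k * f y * f (tw s j))
    ⟨0, h.one.symm, by
      rw [show tw s 0 = 0 by interval_cases s <;> decide +kernel, h.one, one_mul, mul_one]⟩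
    (by
      rintro x ⟨j, rfl, e⟩
      exact ⟨T j 1, h.mul _ _, by rw [mul_assoc, g1, ← mul_assoc, e, tw_T, ← h.mul, mul_assoc (k * f y)]⟩)
    (by
      rintro x ⟨j, rfl, e⟩
      exact ⟨T j 3, h.mul _ _, by rw [mul_assoc, g3, ← mul_assoc, e, tw_T, ← h.mul, mul_assoc (k * f y)]⟩) i
  rw [e', ← tw_mod s j, ← h.inj _ _ e, tw_mod]

end S24

def LE (i k : ℕ) : ZMod 3 :=
  (((0x566a1825196458a292868a82a995241a2698a45161494541 >>> (2 * (4 * i + k))) % 4 : ℕ) : ZMod 3)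

def LM (i : ℕ) : Matrix (Fin 2) (Fin 2) (ZMod 3) := !![LE i 0, LE i 1; LE i 2, LE i 3]

theorem exists_s24 {K : Subgroup G} (e : K ≃* Matrix.SpecialLinearGroup (Fin 2) (ZMod 3)) :
    ∃ f : ℕ → G, S24 f ∧ ∀ x, x ∈ K ↔ ∃ i, x = f i := by
  have d : ∀ i < 24, LE i 0 * LE i 3 - LE i 1 * LE i 2 = 1 := by decide +kernel
  let L : ℕ → Matrix.SpecialLinearGroup (Fin 2) (ZMod 3) := fun i =>
    ⟨LM (i % 24), by rw [LM, Matrix.det_fin_two_of]; exact d _ (l24 i)⟩
  have m : ∀ i < 24, ∀ j < 24, LE i 0 * LE j 0 + LE i 1 * LE j 2 = LE (T i j) 0 ∧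
      LE i 0 * LE j 1 + LE i 1 * LE j 3 = LE (T i j) 1 ∧
      LE i 2 * LE j 0 + LE i 3 * LE j 2 = LE (T i j) 2 ∧
      LE i 2 * LE j 1 + LE i 3 * LE j 3 = LE (T i j) 3 := by decide +kernel
  have n : ∀ i < 24, ∀ j < 24, LE i 0 = LE j 0 → LE i 1 = LE j 1 → LE i 2 = LE j 2 →
      LE i 3 = LE j 3 → i = j := by decide +kernel
  have c : ∀ a b c d : ZMod 3, a * d - b * c = 1 → ∃ i < 24, a = LE i 0 ∧ b = LE i 1 ∧
      c = LE i 2 ∧ d = LE i 3 := by decide +kernel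
  refine ⟨fun i => (e.symm (L i) : G), ⟨fun i j => ?_, fun i j h => ?_, fun i => ?_⟩, fun x =>
    ⟨fun hx => ?_, ?_⟩⟩
  · rw [← Subgroup.coe_mul, ← map_mul]
    congr 2
    refine Subtype.ext ?_
    show LM (i % 24) * LM (j % 24) = LM (T i j % 24)
    obtain ⟨h1, h2, h3, h4⟩ := m _ (l24 i) _ (l24 j)
    rw [LM, LM, Matrix.mul_fin_two, h1, h2, h3, h4, T_mod, Nat.mod_eq_of_lt (T_lt i j), LM]
  · have h1 : LM (i % 24) = LM (j % 24) :=
      congrArg Subtype.val (e.symm.injective (Subtype.ext h))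
    exact n _ (l24 i) _ (l24 j) (congrFun (congrFun h1 0) 0) (congrFun (congrFun h1 0) 1)
      (congrFun (congrFun h1 1) 0) (congrFun (congrFun h1 1) 1)
  · show ((e.symm (L (i % 24)) : K) : G) = e.symm (L i)
    congr 2
    exact Subtype.ext (by show LM (i % 24 % 24) = LM (i % 24); rw [Nat.mod_mod])
  · have hd := (e ⟨x, hx⟩).2
    rw [Matrix.det_fin_two] at hd
    obtain ⟨i, hi, h1, h2, h3, h4⟩ := c _ _ _ _ hd
    refine ⟨i, ?_⟩
    have : e ⟨x, hx⟩ = L i := Subtype.ext (by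
      show _ = LM (i % 24)
      rw [Nat.mod_eq_of_lt hi, LM, ← h1, ← h2, ← h3, ← h4]
      exact Matrix.eta_fin_two _)
    show x = ((e.symm (L i) : K) : G)
    rw [← this, MulEquiv.symm_apply_apply]
  · rintro ⟨i, rfl⟩
    exact (e.symm (L i)).2

end Cfsg.G23
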